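import Cfsg.Agent.Blocks.AbelianSmallTwo.ElementaryFree

/-!
# Centralizers for a free action on an abelian Sylow `2`-subgroup of rank at least three
-/

set_option autoImplicit false
set_option linter.style.haveILetI false

namespace CfsgLib.Blocks.AbelianPrimeIndex

open Cfsg CfsgLib CfsgLib.Blocks.AbelianSmallTwo

universe u

variable {K : Type u} [Group K] [Finite K] {P : Sylow 2 K}

/-- The elements of square one of a commutative subgroup. -/
def omega (P : Sylow 2 K) (hab : IsMulCommutative (P : Subgroup K)) : Subgroup K where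
  carrier := {x | x ∈ (P : Subgroup K) ∧ x ^ 2 = 1}
  one_mem' := ⟨one_mem _, one_pow 2⟩
  mul_mem' := fun {a b} ha hb => ⟨mul_mem ha.1 hb.1, by
    have hc : Commute a b :=
      congrArg Subtype.val (hab.is_comm.comm (⟨a, ha.1⟩ : (P : Subgroup K)) ⟨b, hb.1⟩)
    rw [hc.mul_pow, ha.2, hb.2, one_mul]⟩
  inv_mem' := fun {a} ha => ⟨inv_mem ha.1, by rw [inv_pow, ha.2, inv_one]⟩

omit [Finite K] in
theorem card_omega (hab : IsMulCommutative (P : Subgroup K)) :
    Nat.card (omega P hab) = Nat.card {v : (P : Subgroup K) // v ^ 2 = 1} :=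
  Nat.card_congr
    { toFun := fun x => ⟨⟨x, x.2.1⟩, Subtype.ext x.2.2⟩
      invFun := fun v => ⟨v.1, v.1.2, congrArg Subtype.val v.2⟩
      left_inv := fun _ => rfl
      right_inv := fun _ => rfl }

omit [Finite K] in
/-- Every nonidentity element of `P` has an involution as a power. -/
theorem exists_involution_power {b : K} (hb : b ∈ (P : Subgroup K)) (hb1 : b ≠ 1) :
    ∃ k : ℕ, b ^ k ∈ (P : Subgroup K) ∧ (b ^ k) ^ 2 = 1 ∧ b ^ k ≠ 1 := by
  obtain ⟨i, hi⟩ := IsPGroup.iff_orderOf.mp P.2 ⟨b, hb⟩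
  rw [Subgroup.orderOf_mk] at hi
  rcases i with _ | i
  · rw [pow_zero] at hi
    exact absurd (orderOf_eq_one_iff.1 hi) hb1
  refine ⟨2 ^ i, pow_mem hb _, by rw [← pow_mul, ← pow_succ, ← hi, pow_orderOf_eq_one], fun h => ?_⟩
  have hd := Nat.le_of_dvd (pow_pos two_pos i) (orderOf_dvd_of_pow_eq_one h)
  rw [hi] at hd
  exact absurd hd (not_le.2 (Nat.pow_lt_pow_right one_lt_two (Nat.lt_succ_self i)))

/-- With at least eight elements of square one, centralizers of nonidentity elements of `P` are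
equal to `P`. -/
theorem centralizer_eq_sylow (hab : IsMulCommutative (P : Subgroup K))
    (h8 : 8 ≤ Nat.card {v : (P : Subgroup K) // v ^ 2 = 1}) (hfree : IsFree (P : Subgroup K))
    (hO : pPrimeCore 2 K = ⊥) {a : K} (ha : a ∈ (P : Subgroup K)) (ha1 : a ≠ 1) :
    Subgroup.centralizer ({a} : Set K) = (P : Subgroup K) := by
  classical
  haveI : Fact (Nat.Prime 2) := ⟨Nat.prime_two⟩
  set E := omega P hab with hE
  have hEP : E ≤ (P : Subgroup K) := fun x hx => hx.1
  have hsq : ∀ x ∈ E, x ^ 2 = 1 := fun x hx => hx.2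
  have hPc : ∀ x ∈ (P : Subgroup K), ∀ y ∈ (P : Subgroup K), x * y = y * x := fun x hx y hy =>
    congrArg Subtype.val (hab.is_comm.comm (⟨x, hx⟩ : (P : Subgroup K)) ⟨y, hy⟩)
  -- the elements of odd order of a centralizer form its core
  have hcore : ∀ b ∈ (P : Subgroup K), b ≠ 1 → ∀ z : Subgroup.centralizer ({b} : Set K),
      (orderOf z).Coprime 2 → (z : K) ∈ centralizerPPrimeCore 2 b := by
    intro b hb hb1 z hz
    obtain ⟨N, hN, hc, k, hk⟩ := Transfer.hasNormalPComplement_iff_exists.1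
      (hasNormalPComplement_centralizer hab hfree hb hb1)
    haveI := hN
    exact ⟨z, (le_sSup ⟨hN, hc⟩ : N ≤ pPrimeCore 2 _)
      ((Transfer.mem_iff_coprime_of_pPower_index hc hk z).2 hz), rfl⟩
  set θ : K → Subgroup K := fun a => centralizerPPrimeCore 2 a
  have hθodd : ∀ a, Odd (Nat.card (θ a)) := fun a =>
    Nat.odd_iff.2 (Nat.two_dvd_ne_zero.1 (Signalizer.centralizerPPrimeCore_not_dvd a))
  obtain ⟨hWp, -⟩ := SignalizerMethod.signalizerFunctor E
    (fun x hx y hy => hPc x hx.1 y hy.1) hsq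
    (le_of_le_of_eq h8 (card_omega hab).symm) θ
    (fun a _ _ => Signalizer.centralizerPPrimeCore_le a)
    (fun a _ _ => Signalizer.centralizerPPrimeCore_not_dvd a)
    (fun a ha _ b hb x hx => (Subgroup.mem_normalizer_iff.mp
      (Signalizer.le_normalizer_centralizerPPrimeCore a
        (sylow_le_centralizer hab (hEP ha) (hEP hb))) x).mp hx)
    (fun a _ _ => Cfsg.Agent.S0205.result (hθodd a))
    (fun a _ _ b hb hb1 x hx => hcore b (hEP hb) hb1 ⟨x, hx.2⟩ (by
      rw [Subgroup.orderOf_mk]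
      exact Nat.Coprime.coprime_dvd_left (Subgroup.orderOf_dvd_natCard _ hx.1)
        (Nat.coprime_two_right.2 (hθodd a))))
  set W : Subgroup K := ⨆ a : {a : K // a ∈ E ∧ a ≠ 1}, θ a with hW
  set NP := Subgroup.normalizer ((P : Subgroup K) : Set K) with hNP
  have hNW : NP ≤ Subgroup.normalizer (W : Set K) := by
    have key : ∀ g ∈ NP, ∀ x ∈ W, g * x * g⁻¹ ∈ W := by
      intro g hg x hx
      have hle : W ≤ W.comap (MulAut.conj g).toMonoidHom := iSup_le fun a y hy =>
        Subgroup.mem_comap.mpr (Subgroup.mem_iSup_of_mem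
          (⟨g * a.1 * g⁻¹, ⟨(Subgroup.mem_normalizer_iff.mp hg _).mp a.2.1.1,
            by rw [conj_pow, a.2.1.2, mul_one, mul_inv_cancel]⟩, fun h => a.2.2 (by
            rwa [mul_inv_eq_one, mul_eq_left] at h)⟩ : {a : K // a ∈ E ∧ a ≠ 1})
          (EarlyCharTwo.map_conj_centralizerPPrimeCore_le g a.1 ⟨y, hy, rfl⟩))
      exact hle hx
    intro g hg
    rw [Subgroup.mem_normalizer_iff]
    refine fun x => ⟨key g hg x, fun hx => ?_⟩
    have := key g⁻¹ (inv_mem hg) _ hx
    simpa [mul_assoc] using this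
  set Mx : Subgroup K := W ⊔ NP with hMx
  -- an element of odd order in the centralizer of an involution of `P` lies in `W`
  have hCE : ∀ b ∈ E, b ≠ 1 → ∀ c ∈ Subgroup.centralizer ({b} : Set K),
      ∃ w ∈ W, ∃ p ∈ (P : Subgroup K), w * p = c := by
    intro b hb hb1 c hc
    obtain ⟨N, hN, hN'⟩ := Transfer.exists_isComplement'
      (hasNormalPComplement_centralizer hab hfree (hEP hb) hb1)
      (P.subtype (sylow_le_centralizer hab (hEP hb)))
    obtain ⟨⟨n, p⟩, he⟩ := hN'.2 (⟨c, hc⟩ : Subgroup.centralizer ({b} : Set K))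
    refine ⟨_, Subgroup.mem_iSup_of_mem (⟨b, hb, hb1⟩ : {a : K // a ∈ E ∧ a ≠ 1})
      (hcore b (hEP hb) hb1 _ ?_), _, p.2, congrArg Subtype.val he⟩
    exact Nat.Coprime.coprime_dvd_left (Subgroup.orderOf_dvd_natCard _ n.2)
      (Transfer.coprime_of_not_dvd (by
        rw [← hN'.index_eq_card]; exact (P.subtype _).not_dvd_index))
  -- every centralizer is contained in one of an involution
  have hpow : ∀ b ∈ (P : Subgroup K), b ≠ 1 → ∃ b' ∈ E, b' ≠ 1 ∧
      Subgroup.centralizer ({b} : Set K) ≤ Subgroup.centralizer ({b'} : Set K) := by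
    intro b hb hb1
    obtain ⟨k, hk, hk2, hk1⟩ := exists_involution_power hb hb1
    exact ⟨b ^ k, ⟨hk, hk2⟩, hk1, fun c hc => Subgroup.mem_centralizer_singleton_iff.2
      ((show Commute c b from Subgroup.mem_centralizer_singleton_iff.1 hc).pow_right k)⟩
  have hCM : ∀ b ∈ (P : Subgroup K), b ≠ 1 → Subgroup.centralizer ({b} : Set K) ≤ Mx := by
    intro b hb hb1 c hc
    obtain ⟨b', hb', hb'1, hle⟩ := hpow b hb hb1
    obtain ⟨w, hw, p, hp, rfl⟩ := hCE b' hb' hb'1 c (hle hc)
    exact mul_mem (Subgroup.mem_sup_left hw)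
      (Subgroup.mem_sup_right (Subgroup.le_normalizer hp))
  -- hence `W` is trivial
  have hWbot : W = ⊥ := by
    have hWodd : (Nat.card W).Coprime 2 := Transfer.coprime_of_not_dvd hWp
    by_cases hMtop : Mx = ⊤
    · have hWn : W.Normal := by
        rw [← Subgroup.normalizer_eq_top_iff, eq_top_iff, ← hMtop]
        exact sup_le Subgroup.le_normalizer hNW
      exact le_bot_iff.1 (hO ▸ le_sSup ⟨hWn, hWodd⟩)
    · have hSE : IsStronglyEmbedded Mx := by
        obtain ⟨a', ha', ha'1, -⟩ := hpow a ha ha1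
        refine StronglyEmbedded.isStronglyPEmbedded_two_iff.1
          (LocalCharP.isStronglyPEmbedded_intro
            (((orderOf_eq_prime (hsq a' ha') ha'1).symm ▸ orderOf_dvd_natCard a')) hMtop P ?_)
        intro Q hQP hQ1 n hn
        obtain ⟨q, hq, hq1⟩ := (Subgroup.bot_or_exists_ne_one Q).resolve_left hQ1
        have hq' : n * q * n⁻¹ ∈ (P : Subgroup K) :=
          hQP ((Subgroup.mem_normalizer_iff.mp hn q).mp hq)
        have hq'1 : n * q * n⁻¹ ≠ 1 := fun h => hq1 (by
          rwa [mul_inv_eq_one, mul_eq_left] at h)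
        set C := Subgroup.centralizer ({n * q * n⁻¹} : Set K)
        have hnPC : ((n • P : Sylow 2 K) : Subgroup K) ≤ C := by
          intro x hx
          obtain ⟨y, hy, rfl⟩ :=
            (show x ∈ (P : Subgroup K).map (MulAut.conj n).toMonoidHom from hx)
          refine Subgroup.mem_centralizer_singleton_iff.mpr ?_
          show n * y * n⁻¹ * (n * q * n⁻¹) = n * q * n⁻¹ * (n * y * n⁻¹)
          rw [conj_mul, conj_mul, hPc y hy q (hQP hq)]
        obtain ⟨c, hc⟩ := MulAction.exists_smul_eq C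
          ((n • P : Sylow 2 K).subtype hnPC) (P.subtype (sylow_le_centralizer hab hq'))
        rw [Sylow.smul_subtype] at hc
        have hc2 := Sylow.subtype_injective hc
        have hcn : (c : K) * n ∈ NP := by
          refine Sylow.smul_eq_iff_mem_normalizer.mp ?_
          rw [mul_smul]
          exact hc2
        rw [show n = (c : K)⁻¹ * ((c : K) * n) by group]
        exact mul_mem (inv_mem (hCM _ hq' hq'1 c.2)) (Subgroup.mem_sup_right hcn)
      have h1 := Cfsg.Agent.S1221.result Mx hSE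
      haveI hWn : (W.subgroupOf Mx).Normal :=
        (Subgroup.normal_subgroupOf_iff_le_normalizer le_sup_left).2
          (sup_le Subgroup.le_normalizer hNW)
      refine le_bot_iff.1 fun w hw => ?_
      have h2 : (⟨w, Subgroup.mem_sup_left hw⟩ : Mx) ∈ oddCore Mx :=
        (le_sSup ⟨hWn, by
          rw [Nat.card_congr (Subgroup.subgroupOfEquivOfLe (le_sup_left : W ≤ Mx)).toEquiv]
          exact hWodd⟩ : W.subgroupOf Mx ≤ pPrimeCore 2 Mx) hw
      have h4 : w ∈ pPrimeCore 2 K := (le_of_eq rfl : oddCore K ≤ pPrimeCore 2 K)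
        (h1 (Subgroup.mem_map_of_mem Mx.subtype h2))
      rwa [hO] at h4
  refine le_antisymm (fun c hc => ?_) (sylow_le_centralizer hab ha)
  obtain ⟨a', ha', ha'1, hle⟩ := hpow a ha ha1
  obtain ⟨w, hw, p, hp, rfl⟩ := hCE a' ha' ha'1 c (hle hc)
  rw [hWbot, Subgroup.mem_bot] at hw
  rw [hw, one_mul]
  exact hp

end CfsgLib.Blocks.AbelianPrimeIndex
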