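import Cfsg.Agent.Blocks.AbelianPrimeIndex.Centralizer
import Cfsg.Agent.Blocks.AbelianSmallTwo.Free
import Cfsg.Agent.CAGroups.AbelianInvolutionSplit
import Cfsg.Agent.TwoFpf.Classify
import Cfsg.Agent.S0949
import Cfsg.Agent.S0205

/-!
# Free action of prime order on an abelian Sylow `2`-subgroup with trivial odd core
-/

set_option autoImplicit false
set_option linter.style.haveILetI false

namespace CfsgLib.Blocks.AbelianPrimeIndex

open Cfsg CfsgLib CfsgLib.Blocks.AbelianSmallTwo

universe u

variable {K : Type u} [Group K] [Finite K] {P : Sylow 2 K}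

/-- A group with a normal abelian Sylow `2`-subgroup is solvable. -/
theorem isSolvable_of_normal (hab : IsMulCommutative (P : Subgroup K))
    (hn : (P : Subgroup K).Normal) : Group.IsSolvable K := by
  haveI : Fact (Nat.Prime 2) := ⟨Nat.prime_two⟩
  haveI := hn
  refine (Group.isSolvable_iff_subgroup_quotient (P : Subgroup K)).2 ⟨?_, ?_⟩
  · exact Group.isSolvable_of_comm fun a b => hab.is_comm.comm a b
  · refine Cfsg.Agent.S0205.result ?_
    rw [← Subgroup.index_eq_card]
    exact Nat.odd_iff.2 (Nat.two_dvd_ne_zero.1 P.not_dvd_index)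

omit [Finite K] in
theorem relIndex_eq_index [(P : Subgroup K).Normal]
    (hCP : Subgroup.centralizer ((P : Subgroup K) : Set K) = (P : Subgroup K)) :
    (Subgroup.centralizer ((P : Subgroup K) : Set K)).relIndex
      (Subgroup.normalizer ((P : Subgroup K) : Set K)) = (P : Subgroup K).index := by
  rw [Subgroup.normalizer_eq_top_iff.2 ‹_›, Subgroup.relIndex_top_right, hCP]

/-- Rank two: the group is solvable unless the Sylow subgroup is a four-group. -/
theorem isSolvable_of_four (hab : IsMulCommutative (P : Subgroup K)) (hfree : IsFree (P : Subgroup K))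
    (hO : pPrimeCore 2 K = ⊥)
    (he : (Subgroup.centralizer ((P : Subgroup K) : Set K)).relIndex
      (Subgroup.normalizer ((P : Subgroup K) : Set K)) = 3)
    (h4 : Nat.card {v : (P : Subgroup K) // v ^ 2 = 1} = 4) (hP : 4 < Nat.card P) :
    Group.IsSolvable K := by
  classical
  haveI : Fact (Nat.Prime 2) := ⟨Nat.prime_two⟩
  have hc3 : Nat.card (autN P) = 3 := by rw [card_autN, he]
  haveI : Nontrivial (autN P) := Finite.one_lt_card_iff_nontrivial.1 (by omega)
  obtain ⟨a, ha⟩ := exists_ne (1 : autN P)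
  set θ : MulAut (P : Subgroup K) := (a : MulAut (P : Subgroup K)) with hθ
  have hf : TwoFpf.IsFpfThree θ := by
    refine ⟨fun x => ?_, fun x hx => ?_⟩
    · have h1 : (a ^ 3 : autN P) = 1 := by rw [← hc3]; exact pow_card_eq_one'
      have h2 := congrArg (fun b : autN P => (b : MulAut (P : Subgroup K)) x) h1
      simpa [pow_succ, hθ] using h2
    · by_contra hx1
      exact ha (eq_one_of_fix_autN hfree a hx1 hx)
  let W : Subgroup (P : Subgroup K) :=
    { carrier := {v | v ^ 2 = 1}
      one_mem' := one_pow 2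
      mul_mem' := fun {a b} (ha : a ^ 2 = 1) (hb : b ^ 2 = 1) => show (a * b) ^ 2 = 1 by
        rw [(show Commute a b from hab.is_comm.comm a b).mul_pow, ha, hb, one_mul]
      inv_mem' := fun {a} (ha : a ^ 2 = 1) => show a⁻¹ ^ 2 = 1 by rw [inv_pow, ha, inv_one] }
  have hW : TwoFpf.IsFour θ W := by
    refine ⟨fun w _ => Subgroup.mem_center_iff.2 fun g => hab.is_comm.comm g w, h4,
      fun w hw => (pow_two w).symm.trans hw, fun w (hw : w ^ 2 = 1) => ?_⟩
    show θ w ^ 2 = 1
    rw [← map_pow, hw, map_one]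
  rcases TwoFpf.classify P.2 hf hW (fun x hx => (pow_two x).trans hx) with hh | hu
  · obtain ⟨n, hn, ⟨e⟩⟩ := hh.exists_mulEquiv
    have hn2 : 2 ≤ n := by
      by_contra hlt
      obtain rfl : n = 1 := by omega
      have h : Nat.card P = 4 := by
        rw [Nat.card_congr e.toEquiv, Nat.card_congr Multiplicative.toAdd, Nat.card_prod,
          Nat.card_zmod]
        norm_num
      omega
    exact isSolvable_of_normal hab (Cfsg.Agent.S0949.result P n hn2 e (fun N hN hodd =>
      le_bot_iff.1 (hO ▸ le_sSup ⟨hN, Nat.coprime_two_right.2 hodd⟩))).1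
  · exfalso
    let sq : (P : Subgroup K) →* W :=
      { toFun := fun x => ⟨x * x, hu.1.sq x⟩
        map_one' := Subtype.ext (one_mul 1)
        map_mul' := fun x y => Subtype.ext
          ((show Commute y x from hab.is_comm.comm y x).mul_mul_mul_comm x y) }
    have hker : sq.ker ≤ W := fun x hx => (pow_two x).trans (congrArg Subtype.val hx)
    have h1 : Nat.card sq.ker ≤ 4 := h4 ▸ Subgroup.card_le_of_le hker
    have h2 : sq.ker.index ≤ 4 := by
      rw [Subgroup.index_ker]
      exact (Subgroup.card_le_card_group _).trans h4.le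
    have h3 := sq.ker.card_mul_index
    have h5 : Nat.card P = 64 := hu.1.card
    have := Nat.mul_le_mul h1 h2
    omega

/-- **The rank and the count** with trivial odd core and free action of prime order. -/
theorem rank_of_free {M : Ideal AlgInt} (hM : IsPModular 2 M)
    (hab : IsMulCommutative (P : Subgroup K)) (hfree : IsFree (P : Subgroup K))
    (hO : pPrimeCore 2 K = ⊥)
    (he : ((Subgroup.centralizer ((P : Subgroup K) : Set K)).relIndex
      (Subgroup.normalizer ((P : Subgroup K) : Set K))).Prime) :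
    blockRank 2 (principalBlock M K) = (Subgroup.centralizer ((P : Subgroup K) : Set K)).relIndex
        (Subgroup.normalizer ((P : Subgroup K) : Set K)) ∧
      (¬ Group.IsSolvable K → Nat.card P = (Subgroup.centralizer ((P : Subgroup K) : Set K)).relIndex
        (Subgroup.normalizer ((P : Subgroup K) : Set K)) + 1) := by
  classical
  haveI : Fact (Nat.Prime 2) := ⟨Nat.prime_two⟩
  set CP := Subgroup.centralizer ((P : Subgroup K) : Set K) with hCPdef
  set NP := Subgroup.normalizer ((P : Subgroup K) : Set K) with hNPdef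
  have he1 : CP.relIndex NP ≠ 1 := he.ne_one
  have hfix := fixedPart_eq_bot hfree he1
  obtain ⟨n, hn, hk⟩ := exists_count hM hab (hfix ▸ bot_le) (fun m hm v hv hv' =>
    hfree m hm v hv fun e => hv' (by rw [e]; exact one_mem _))
  rw [hfix, Subgroup.card_bot] at hn hk
  rw [one_mul] at hk
  change Nat.card P = 1 + CP.relIndex NP * n at hn
  have hepos : 0 < CP.relIndex NP := he.pos
  obtain ⟨j, hj⟩ := exists_card_sq_eq_one hfree
  change _ = 1 + CP.relIndex NP * j at hj
  have hP1 : (P : Subgroup K) ≠ ⊥ := fun h => he1 (Subgroup.relIndex_eq_one.2 fun m _ =>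
    mem_centralizer_iff_fix.2 fun v hv => by
      rw [h, Subgroup.mem_bot] at hv
      rw [hv, mul_one, mul_inv_cancel])
  obtain ⟨⟨a₀, ha₀⟩, ha₀1⟩ := Subgroup.ne_bot_iff_exists_ne_one.1 hP1
  have ha₀1' : a₀ ≠ 1 := fun e => ha₀1 (Subtype.ext e)
  -- the number of elements of square one
  obtain ⟨i, hi⟩ : ∃ i, Nat.card (omega P hab) = 2 ^ i :=
    IsPGroup.iff_card.1 (P.2.to_le fun x hx => hx.1)
  rw [card_omega, hj] at hi
  have hi2 : 2 ≤ i := by
    by_contra hlt
    have hj1 : 2 ≤ 1 + CP.relIndex NP * j := by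
      obtain ⟨k, hk1, hk2, hk3⟩ := exists_involution_power ha₀ ha₀1'
      rw [← hj, Nat.succ_le_iff, Finite.one_lt_card_iff_nontrivial]
      exact ⟨⟨⟨⟨a₀ ^ k, hk1⟩, Subtype.ext hk2⟩, ⟨1, one_pow 2⟩,
        fun e => hk3 (congrArg (fun v => ((v.1 : (P : Subgroup K)) : K)) e)⟩⟩
    interval_cases i
    · omega
    · exact he1 (Nat.eq_one_of_mul_eq_one_right (show CP.relIndex NP * j = 1 by omega))
  rcases Nat.lt_or_ge i 3 with hi3 | hi3
  · -- rank two
    obtain rfl : i = 2 := by omega
    have h3 : CP.relIndex NP = 3 :=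
      ((Nat.dvd_prime Nat.prime_three).1 ⟨j, by omega⟩).resolve_left he1
    rcases le_or_gt (Nat.card P) 4 with hP4 | hP4
    · refine ⟨blockRank_free hM hab (by omega) hfree, fun _ => ?_⟩
      rw [h3] at hn ⊢
      have : n ≠ 0 := by
        rintro rfl
        exact hP1 (Subgroup.card_eq_one.1 (by omega))
      omega
    refine ⟨?_, fun hns => absurd (isSolvable_of_four hab hfree hO h3 (by omega) hP4) hns⟩
    haveI := hab
    haveI := Fintype.ofFinite K
    have hfrob : AbelianFrobenius.Frob P := by
      intro y hy hy1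
      refine le_antisymm (fun m hm => hfree m hm.2 y hy hy1
        (mul_inv_eq_iff_eq_mul.2 (Subgroup.mem_centralizer_singleton_iff.1 hm.1))) fun m hm => ?_
      exact ⟨Subgroup.mem_centralizer_singleton_iff.2 ((Subgroup.mem_centralizer_iff.1 hm y hy).symm),
        Subgroup.centralizer_le_normalizer _ hm⟩
    have hA3 : Nat.card (AbelianFrobenius.autP P) = 3 := by
      rw [AbelianFrobenius.card_autP]; exact h3
    obtain ⟨χ₂, χ₃, -, -, -, ζ, -, -, -, hinj, h2, h3', h23, hdisj, hB, -, -, -, hcnt, -⟩ :=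
      AbelianFrobenius.exists_three_family hM hfrob hA3 hP4
    haveI : Finite (Set.range ζ) := Subtype.finite
    have hkr : Nat.card (principalBlock M K) =
        3 + Nat.card (AbelianFrobenius.Orb (AbelianFrobenius.autP P)) := by
      rw [Nat.card_coe_set_eq, hB, Set.ncard_union_eq hdisj (Set.toFinite _) (Set.toFinite _),
        Set.ncard_eq_three.2 ⟨_, χ₂, χ₃, h2.symm, h3'.symm, h23, rfl⟩,
        Set.ncard_range_of_injective hinj]
    rw [h3] at hn ⊢
    omega
  · -- rank at least three
    have h8 : 8 ≤ Nat.card {v : (P : Subgroup K) // v ^ 2 = 1} := by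
      rw [hj, hi]
      exact le_of_eq_of_le (by norm_num) (Nat.pow_le_pow_right two_pos hi3)
    have hC : ∀ a ∈ (P : Subgroup K), a ≠ 1 →
        Subgroup.centralizer ({a} : Set K) = (P : Subgroup K) :=
      fun a ha ha1 => centralizer_eq_sylow hab h8 hfree hO ha ha1
    have hCP : CP = (P : Subgroup K) := by
      refine le_antisymm ?_ fun x hx => Subgroup.mem_centralizer_iff.2 fun y hy =>
        congrArg Subtype.val (hab.is_comm.comm (⟨y, hy⟩ : (P : Subgroup K)) ⟨x, hx⟩)
      exact (Subgroup.centralizer_le (Set.singleton_subset_iff.2 ha₀)).trans (hC a₀ ha₀ ha₀1').le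
    by_cases hnorm : (P : Subgroup K).Normal
    · haveI := hnorm
      refine ⟨?_, fun hns => absurd (isSolvable_of_normal hab hnorm) hns⟩
      have hidx : CP.relIndex NP = (P : Subgroup K).index := relIndex_eq_index hCP
      haveI : Fact (Nat.card (K ⧸ (P : Subgroup K))).Prime :=
        ⟨by rw [← Subgroup.index_eq_card, ← hidx]; exact he⟩
      haveI : IsCyclic (K ⧸ (P : Subgroup K)) := isCyclic_of_prime_card (p := Nat.card (K ⧸ (P : Subgroup K))) rfl
      obtain ⟨m, hm, hkm⟩ := natCard_principal_of_normal hM hC hP1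
        (fun x y => IsCyclic.commGroup.mul_comm x y)
      rw [← hidx] at hm hkm
      have : m = n := Nat.eq_of_mul_eq_mul_left hepos (by omega)
      omega
    have hord : ∀ t : K, orderOf t = 2 → ∃ g : K, ∀ c ∈ Subgroup.centralizer ({t} : Set K),
        g * c * g⁻¹ ∈ (P : Subgroup K) := by
      intro t ht
      obtain ⟨g, hg⟩ := CAGroups.AbelianCent.exists_conj_mem P ht
      refine ⟨g, fun c hc => ?_⟩
      have ht1 : g * t * g⁻¹ ≠ 1 := fun h => by
        rw [mul_inv_eq_one, mul_eq_left] at h
        rw [h, orderOf_one] at ht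
        exact absurd ht (by norm_num)
      rw [← hC _ hg ht1, Subgroup.mem_centralizer_singleton_iff, conj_mul, conj_mul,
        Subgroup.mem_centralizer_singleton_iff.1 hc]
    have hnc : ¬ IsCyclic (P : Subgroup K) := fun hcyc => by
      haveI := hcyc
      letI := Fintype.ofFinite (P : Subgroup K)
      have h := IsCyclic.card_pow_eq_one_le (α := (P : Subgroup K)) two_pos
      rw [← Fintype.card_subtype, ← Nat.card_eq_fintype_card] at h
      omega
    have hcomm : ∀ t : K, orderOf t = 2 →
        IsMulCommutative (Subgroup.centralizer ({t} : Set K)) := fun t ht => by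
      obtain ⟨g, hg⟩ := hord t ht
      refine ⟨⟨fun a b => Subtype.ext ?_⟩⟩
      have h : g * a * g⁻¹ * (g * b * g⁻¹) = g * b * g⁻¹ * (g * a * g⁻¹) :=
        congrArg Subtype.val (hab.is_comm.comm (⟨_, hg a a.2⟩ : (P : Subgroup K)) ⟨_, hg b b.2⟩)
      rw [conj_mul, conj_mul] at h
      exact mul_left_cancel (mul_right_cancel h)
    obtain ⟨A, hA⟩ := CAGroups.AbelianCent.exists_split (T := P) ⟨hnc, hnorm, hcomm⟩
    have hyp : StronglyEmbedded.AbelianCentralizer.Hyp P := by
      refine ⟨hnc, hnorm, fun t ht => ⟨hcomm t ht, fun c hc => ?_⟩⟩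
      obtain ⟨g, hg⟩ := hord t ht
      have h : (g * c * g⁻¹) ^ 2 = 1 := (pow_two _).trans (hA.exponent _ (hg c hc))
      rwa [conj_pow, mul_inv_eq_one, mul_eq_left] at h
    obtain ⟨F, iF, iF', hchar, hF, ⟨e⟩⟩ := CAGroups.nonempty_mulEquiv_sl2 hyp
    haveI := hchar
    have hk' := natCard_principal_sl2 hM e
    rw [hF] at hk'
    have hNcard : Nat.card NP = Nat.card P * (Nat.card P - 1) :=
      StronglyEmbedded.AbelianCentralizer.card_normalizer hyp
    have hrel : CP.relIndex NP = Nat.card P - 1 := by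
      have h := (CP.subgroupOf NP).card_mul_index
      rw [hCP, Nat.card_congr (Subgroup.subgroupOfEquivOfLe Subgroup.le_normalizer).toEquiv,
        hNcard] at h
      rw [hCP]
      exact Nat.eq_of_mul_eq_mul_left Nat.card_pos h
    have hn1 : n = 1 := by
      refine Nat.eq_of_mul_eq_mul_left hepos ?_
      omega
    exact ⟨by omega, fun _ => by omega⟩

end CfsgLib.Blocks.AbelianPrimeIndex
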