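import Cfsg.Agent.Blocks.AbelianPrimeIndex.Core
import Cfsg.Agent.Blocks.AbelianSmallTwo.Central
import Cfsg.Agent.S4571

/-!
# The principal `2`-block for an abelian Sylow `2`-subgroup with inertial index a prime
-/

set_option autoImplicit false
set_option linter.style.haveILetI false

namespace CfsgLib.Blocks.AbelianPrimeIndex

open Cfsg CfsgLib CfsgLib.Blocks.AbelianSmallTwo

universe u v

variable {G : Type u} [Group G] [Finite G] {M : Ideal AlgInt} {P : Sylow 2 G}

theorem comm_mapSurjective {H : Type v} [Group H] {π : G →* H} (hπ : Function.Surjective π)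
    (hab : IsMulCommutative (P : Subgroup G)) :
    IsMulCommutative (P.mapSurjective hπ : Subgroup H) := by
  rw [Sylow.coe_mapSurjective]
  exact Subgroup.map_isMulCommutative _ π

omit [Finite G] in
/-- With prime inertial index the action is free outside the fixed part. -/
theorem free_of_prime (he : ((Subgroup.centralizer ((P : Subgroup G) : Set G)).relIndex
      (Subgroup.normalizer ((P : Subgroup G) : Set G))).Prime) :
    ∀ n ∈ Subgroup.normalizer ((P : Subgroup G) : Set G), ∀ v ∈ (P : Subgroup G),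
      v ∉ fixedPart P → n * v * n⁻¹ = v →
        n ∈ Subgroup.centralizer ((P : Subgroup G) : Set G) := by
  intro n hn v hv hvC e
  set t : autN P := ⟨(P : Subgroup G).normalizerMonoidHom ⟨n, hn⟩, ⟨_, rfl⟩⟩ with ht
  by_cases ht1 : t = 1
  · rw [mem_centralizer_iff_fix]
    intro w hw
    exact congrArg Subtype.val (DFunLike.congr_fun (congrArg Subtype.val ht1)
      (⟨w, hw⟩ : (P : Subgroup G)))
  exfalso
  haveI : Fact (Nat.card (autN P)).Prime := ⟨by rw [card_autN]; exact he⟩
  refine hvC ⟨hv, fun m hm => ?_⟩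
  let S : Subgroup (autN P) := (MulAction.stabilizer (MulAut (P : Subgroup G))
    (⟨v, hv⟩ : (P : Subgroup G))).comap (autN P).subtype
  have hS : S = ⊤ := (Subgroup.eq_bot_or_eq_top_of_prime_card S).resolve_left fun h =>
    ht1 (Subgroup.mem_bot.1 (h ▸ (show t ∈ S from Subtype.ext e)))
  have hmS : (⟨(P : Subgroup G).normalizerMonoidHom ⟨m, hm⟩, ⟨_, rfl⟩⟩ : autN P) ∈ S :=
    hS ▸ Subgroup.mem_top _
  exact congrArg Subtype.val (show ((P : Subgroup G).normalizerMonoidHom ⟨m, hm⟩) ⟨v, hv⟩ = ⟨v, hv⟩
    from hmS)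

/-- The statement with trivial odd core. -/
theorem invariants_core_free (hM : IsPModular 2 M) (hab : IsMulCommutative (P : Subgroup G))
    (hO : pPrimeCore 2 G = ⊥)
    (he : ((Subgroup.centralizer ((P : Subgroup G) : Set G)).relIndex
      (Subgroup.normalizer ((P : Subgroup G) : Set G))).Prime) :
    blockRank 2 (principalBlock M G) = (Subgroup.centralizer ((P : Subgroup G) : Set G)).relIndex
        (Subgroup.normalizer ((P : Subgroup G) : Set G)) ∧
      (¬ Group.IsSolvable G → Nat.card (principalBlock M G) = Nat.card P) := by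
  classical
  haveI : Fact (Nat.Prime 2) := ⟨Nat.prime_two⟩
  have hfree := free_of_prime he
  have hcen := fixedPart_le_center hab hO
  obtain ⟨n, hn, hk⟩ := exists_count hM hab hcen hfree
  set C := fixedPart P with hC
  haveI hCn : C.Normal := ⟨fun z hz g => by
    rw [Subgroup.mem_center_iff.1 (hcen hz) g, mul_inv_cancel_right]; exact hz⟩
  have hC2 : IsPGroup 2 C := P.2.to_le (fixedPart_le P)
  have hπ := QuotientGroup.mk'_surjective C
  letI : CommGroup (P : Subgroup G) :=
    { (P : Subgroup G).toGroup with mul_comm := hab.is_comm.comm }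
  have hodd : Odd (Nat.card (autN P)) := by rw [card_autN]; exact odd_relIndex hab
  have hsep : ∀ m ∈ Subgroup.normalizer ((P : Subgroup G) : Set G), ∀ v ∈ (P : Subgroup G),
      QuotientGroup.mk' C (m * v * m⁻¹) = QuotientGroup.mk' C v → m * v * m⁻¹ = v := by
    intro m hm v hv e
    have hmem : v⁻¹ * (m * v * m⁻¹) ∈ C := QuotientGroup.eq.1 e.symm
    set t := (P : Subgroup G).normalizerMonoidHom ⟨m, hm⟩
    exact congrArg Subtype.val (apply_eq_of_inv_mul_mem P.2
      (odd_orderOf hodd (⟨_, rfl⟩ : t ∈ autN P))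
      (D := fixSub (autN P : Set (MulAut (P : Subgroup G))))
      (fun d hd => hd t ⟨_, rfl⟩) (v := (⟨v, hv⟩ : (P : Subgroup G)))
      (fun t' ht' => by
        obtain ⟨m', rfl⟩ := ht'
        exact Subtype.ext (hmem.2 m' m'.2)))
  set T := P.mapSurjective hπ
  have hTfree : IsFree (T : Subgroup (G ⧸ C)) :=
    isFree_map hπ P hsep fun m hm v hv hv1 e =>
      hfree m hm v hv (fun h => hv1 ((QuotientGroup.eq_one_iff _).2 h)) e
  have hOq : pPrimeCore 2 (G ⧸ C) = ⊥ :=
    eq_bot_of_odd_normal hO C hcen hC2 _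
      (Nat.odd_iff.2 (Nat.two_dvd_ne_zero.1 Constrained.pPrimeCore_not_dvd))
  have hrel := relIndex_map hπ P hsep
  obtain ⟨hl, hcard⟩ := rank_of_free hM (comm_mapSurjective hπ hab) hTfree hOq
    (hrel.symm ▸ he)
  rw [hrel] at hl hcard
  have hL : blockRank 2 (principalBlock M G) = (Subgroup.centralizer ((P : Subgroup G) : Set G)).relIndex
      (Subgroup.normalizer ((P : Subgroup G) : Set G)) := by
    rw [Cfsg.Agent.S4571.result 2 M hM C hC2
      (eq_top_iff.2 fun y _ => Subgroup.mem_sup_right (Subgroup.mem_centralizer_iff.2 fun q hq =>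
        (Subgroup.mem_center_iff.1 (hcen hq) y).symm)), hl]
  refine ⟨hL, fun hns => ?_⟩
  have hnsT : ¬ Group.IsSolvable (G ⧸ C) := fun hs => hns <| by
    refine (Group.isSolvable_iff_subgroup_quotient C).2 ⟨Group.isSolvable_of_comm fun a b => ?_, hs⟩
    exact Subtype.ext (Subgroup.mem_center_iff.1 (hcen b.2) a)
  have hT := hcard hnsT
  have hTc : Nat.card T * Nat.card C = Nat.card P := by
    have h1 : Nat.card T = C.relIndex (P : Subgroup G) := by
      show Nat.card ((P.mapSurjective hπ : Sylow 2 (G ⧸ C)) : Subgroup (G ⧸ C)) = _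
      rw [Sylow.coe_mapSurjective, ← Subgroup.relIndex_ker, QuotientGroup.ker_mk']
    have h2 := (C.subgroupOf (P : Subgroup G)).card_mul_index
    rw [Nat.card_congr (Subgroup.subgroupOfEquivOfLe (fixedPart_le P)).toEquiv] at h2
    rw [h1, mul_comm]
    exact h2
  rw [hL] at hk
  rw [hT, add_mul, one_mul] at hTc
  have hne : n = Nat.card C := by
    refine Nat.eq_of_mul_eq_mul_left he.pos ?_
    have := hn
    omega
  subst hne
  rw [hk, ← hTc]
  ring

/-- **The invariants of the principal `2`-block.** -/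
theorem invariants (hM : IsPModular 2 M) (hab : IsMulCommutative (P : Subgroup G))
    (he : ((Subgroup.centralizer ((P : Subgroup G) : Set G)).relIndex
      (Subgroup.normalizer ((P : Subgroup G) : Set G))).Prime) :
    blockRank 2 (principalBlock M G) = (Subgroup.centralizer ((P : Subgroup G) : Set G)).relIndex
        (Subgroup.normalizer ((P : Subgroup G) : Set G)) ∧
      (¬ Group.IsSolvable G → Nat.card (principalBlock M G) = Nat.card P) := by
  classical
  haveI : Fact (Nat.Prime 2) := ⟨Nat.prime_two⟩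
  set N := pPrimeCore 2 G with hN
  have hker : ¬ 2 ∣ Nat.card (QuotientGroup.mk' N).ker := by
    rw [QuotientGroup.ker_mk']
    exact Constrained.pPrimeCore_not_dvd
  have hπ := QuotientGroup.mk'_surjective N
  have hsep : ∀ m ∈ Subgroup.normalizer ((P : Subgroup G) : Set G), ∀ v ∈ (P : Subgroup G),
      QuotientGroup.mk' N (m * v * m⁻¹) = QuotientGroup.mk' N v → m * v * m⁻¹ = v :=
    fun m hm v hv e => eq_of_map_eq hker P.2 ((Subgroup.mem_normalizer_iff.1 hm v).1 hv) hv e
  have hrel := relIndex_map hπ P hsep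
  obtain ⟨hl, hc⟩ := invariants_core_free (P := P.mapSurjective hπ) hM (comm_mapSurjective hπ hab)
    Constrained.pPrimeCore_quotient_pPrimeCore (hrel.symm ▸ he)
  rw [hrel] at hl
  refine ⟨by rw [RankFourNine.blockRank_quotient_pPrimeCore hM, hl], fun hns => ?_⟩
  have hN2 : ¬ 2 ∣ Nat.card N := Constrained.pPrimeCore_not_dvd
  rw [natCard_principal_quotient hM N hN2, hc, mapSurjective_card hπ hker P]
  intro hs
  exact hns ((Group.isSolvable_iff_subgroup_quotient N).2
    ⟨Cfsg.Agent.S0205.result (Nat.odd_iff.2 (Nat.two_dvd_ne_zero.1 hN2)), hs⟩)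

end CfsgLib.Blocks.AbelianPrimeIndex
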